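import Cfsg.Agent.H51.FixDer.Section

/-!
An elementary abelian group of order `q^3` acting coprimely: the derived subgroup is bounded in
terms of `q` and the orders of the derived subgroups of the centralisers of elements (helper51).
-/

set_option autoImplicit false

namespace H51.FixDer

open scoped Pointwise commutatorElement

/-- Bound for the index of the centre of the derived subgroup. -/
def hypBound (q m : ℕ) : ℕ := (m ^ (q ^ 3 * m)) ^ (2 ^ (q ^ 3))

/-- The final bound. -/
def derBound (q m : ℕ) : ℕ :=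
  m ^ (q ^ 3 * m) *
    (hypBound q m).factorial ^
      ((hypBound q m).factorial * ((hypBound q m).factorial * (hypBound q m).factorial) + 1)

variable {X : Type*} [Group X]

/-- Elements `y` of `N(K)` commuting modulo `K` with every element of `S`. -/
def commMod (S : Set X) (K : Subgroup X) : Subgroup X where
  carrier := {y | y ∈ Subgroup.normalizer (K : Set X) ∧ ∀ x ∈ S, ⁅x, y⁆ ∈ K}
  one_mem' := ⟨one_mem _, fun x _ => by simp⟩
  mul_mem' := by
    rintro a b ⟨ha, ha'⟩ ⟨hb, hb'⟩
    refine ⟨mul_mem ha hb, fun x hx => ?_⟩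
    have e : ⁅x, a * b⁆ = ⁅x, a⁆ * (a * ⁅x, b⁆ * a⁻¹) := by
      simp only [commutatorElement_def]; group
    rw [e]
    exact mul_mem (ha' x hx) ((Subgroup.mem_normalizer_iff.1 ha _).1 (hb' x hx))
  inv_mem' := by
    rintro a ⟨ha, ha'⟩
    refine ⟨inv_mem ha, fun x hx => ?_⟩
    have e : ⁅x, a⁻¹⁆ = a⁻¹ * ⁅x, a⁆⁻¹ * a⁻¹⁻¹ := by
      simp only [commutatorElement_def]; group
    rw [e]
    exact (Subgroup.mem_normalizer_iff.1 (inv_mem ha) _).1 (inv_mem (ha' x hx))

variable [Finite X]

/-- Two hyperplanes of a group of order `q^3` share a nonidentity element. -/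
theorem exists_mem_inf {q : ℕ} [Fact q.Prime] {A : Subgroup X} (hA : Nat.card A = q ^ 3)
    {B B' : Subgroup A} (hB : B.index = q) (hB' : B'.index = q) : ∃ c ∈ B ⊓ B', c ≠ 1 := by
  by_contra h
  push Not at h
  have h2 : (B ⊓ B').index = q ^ 3 := by
    rw [(Subgroup.eq_bot_iff_forall _).2 h, Subgroup.index_bot, hA]
  have h3 : (B ⊓ B').index ≤ B.index * B'.index := Subgroup.index_inf_le
  rw [h2, hB, hB'] at h3
  have hq := (Fact.out : q.Prime).one_lt
  have : q * q < q ^ 3 := by nlinarith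
  omega

/-- The bound in internal form. -/
theorem card_commutator_le {q m : ℕ} [Fact q.Prime] {A G : Subgroup X}
    (hA : Cfsg.IsElementaryAbelian q A) (hcard : Nat.card A = q ^ 3)
    (hAG : A ≤ Subgroup.normalizer (G : Set X)) (hG : ¬ q ∣ Nat.card G)
    (hm : ∀ a ∈ A, a ≠ 1 → Nat.card ↥⁅G ⊓ Subgroup.centralizer {a}, G ⊓ Subgroup.centralizer {a}⁆ ≤ m) :
    Nat.card ↥⁅G, G⁆ ≤ derBound q m := by
  classical
  have hq := (Fact.out : q.Prime)
  haveI := hA.1
  have hA1 : A ≠ ⊥ := by
    rintro rfl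
    simp only [Subgroup.card_bot] at hcard
    exact absurd hcard.symm (by have := Nat.one_lt_pow (n := 3) (by norm_num) hq.one_lt; omega)
  obtain ⟨a₀, ha₀, ha₀1⟩ : ∃ a ∈ A, a ≠ 1 := by
    by_contra h
    push Not at h
    exact hA1 ((Subgroup.eq_bot_iff_forall A).2 h)
  have hm1 : 1 ≤ m := le_trans Nat.card_pos (hm a₀ ha₀ ha₀1)
  let Cf : X → Subgroup X := fun a => G ⊓ Subgroup.centralizer {a}
  let D : X → Subgroup X := fun a => ⁅Cf a, Cf a⁆
  let K : Subgroup X := ⨆ a : {a : X // a ∈ A ∧ a ≠ 1}, D a.1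
  have hAC : ∀ a ∈ A, A ≤ Subgroup.normalizer (Cf a : Set X) := by
    intro a ha
    refine H8.le_normalizer_inf hAG (le_trans (fun b hb => ?_) Subgroup.le_normalizer)
    rw [Subgroup.mem_centralizer_singleton_iff]
    exact setLike_mul_comm hb ha
  have hAD : ∀ a ∈ A, A ≤ Subgroup.normalizer (D a : Set X) := by
    intro a ha b hb
    rw [H82.mem_normalizer_iff_map, Subgroup.map_commutator,
      H82.mem_normalizer_iff_map.1 (hAC a ha hb)]
  have hDG : ∀ a, D a ≤ G := fun a =>
    (Subgroup.commutator_le_self _).trans inf_le_left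
  have hKG : K ≤ G := iSup_le fun a => hDG a.1
  have hAK : A ≤ Subgroup.normalizer (K : Set X) :=
    H8.le_normalizer_iSup _ fun a => hAD a.1 a.2.1
  have hqK : ¬ q ∣ Nat.card K := fun h => hG (h.trans (Subgroup.card_dvd_of_le hKG))
  -- commutators of elements centralising hyperplanes
  have hinto : ∀ (B B' : Subgroup A), B ∈ hyp q A → B' ∈ hyp q A →
      ∃ c : {a : X // a ∈ A ∧ a ≠ 1}, G ⊓ hc B ≤ Cf c.1 ∧ G ⊓ hc B' ≤ Cf c.1 := by
    intro B B' hB hB'
    obtain ⟨c, hc', hc1⟩ := exists_mem_inf hcard (mem_hyp.1 hB) (mem_hyp.1 hB')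
    refine ⟨⟨(c : X), c.2, fun e => hc1 (Subtype.ext e)⟩, ?_, ?_⟩
    · exact inf_le_inf_left G (Subgroup.centralizer_le
        (Set.singleton_subset_iff.2 ⟨c, hc'.1, rfl⟩))
    · exact inf_le_inf_left G (Subgroup.centralizer_le
        (Set.singleton_subset_iff.2 ⟨c, hc'.2, rfl⟩))
  have hcommK : ∀ (B B' : Subgroup A), B ∈ hyp q A → B' ∈ hyp q A →
      ∀ x ∈ G ⊓ hc B, ∀ y ∈ G ⊓ hc B', ⁅x, y⁆ ∈ K := by
    intro B B' hB hB' x hx y hy
    obtain ⟨c, h1, h2⟩ := hinto B B' hB hB'
    exact le_iSup (fun a : {a : X // a ∈ A ∧ a ≠ 1} => D a.1) c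
      (Subgroup.commutator_mem_commutator (h1 hx) (h2 hy))
  -- `K` is normalised by `G`
  have hGK : G ≤ Subgroup.normalizer (K : Set X) := by
    refine gen hA hA1 hAG hG fun B hB x hx => ?_
    have hle : K ≤ K.comap (MulAut.conj x).toMonoidHom := by
      refine gen hA hA1 hAK hqK fun B' hB' t ht => ?_
      show x * t * x⁻¹ ∈ K
      have e : x * t * x⁻¹ = ⁅x, t⁆ * t := by rw [commutatorElement_def]; group
      rw [e]
      exact mul_mem (hcommK B B' hB hB' x hx t ⟨hKG ht.1, ht.2⟩) ht.1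
    rw [H82.mem_normalizer_iff_map]
    exact Subgroup.eq_of_le_of_card_ge (Subgroup.map_le_iff_le_comap.2 hle)
      (Subgroup.card_map_of_injective (MulAut.conj x).injective).ge
  -- `G' ≤ K`
  have hGG : ⁅G, G⁆ ≤ K := by
    have hW : ∀ B ∈ hyp q A, G ≤ commMod ((G ⊓ hc B : Subgroup X) : Set X) K := fun B hB =>
      gen hA hA1 hAG hG fun B' hB' y hy => ⟨hGK hy.1, fun x hx => hcommK B B' hB hB' x hx y hy⟩
    have hW2 : G ≤ commMod (G : Set X) K := by
      refine gen hA hA1 hAG hG fun B hB x hx => ⟨hGK hx.1, fun y hy => ?_⟩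
      rw [← commutatorElement_inv]
      exact inv_mem ((hW B hB hy).2 x hx)
    rw [Subgroup.commutator_le]
    exact fun x hx y hy => (hW2 hy).2 x hx
  -- the bounded set of generators
  let T : Set X := {t | ∃ a : {a : X // a ∈ A ∧ a ≠ 1}, t ∈ D a.1 ∧ ∃ B ∈ hyp q A, t ∈ hc B}
  have hKT : K ≤ Subgroup.closure T := iSup_le fun a =>
    gen hA hA1 (hAD a.1 a.2.1) (fun h => hG (h.trans (Subgroup.card_dvd_of_le (hDG a.1))))
      fun B hB t ht => Subgroup.subset_closure ⟨a, ht.1, B, hB, ht.2⟩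
  have hTK : T ⊆ K := fun t ⟨a, ht, _⟩ =>
    le_iSup (fun a : {a : X // a ∈ A ∧ a ≠ 1} => D a.1) a ht
  have hTcard : Nat.card T ≤ q ^ 3 * m := by
    letI := Fintype.ofFinite {a : X // a ∈ A ∧ a ≠ 1}
    have hinj : Function.Injective (fun t : T =>
        (⟨t.2.choose, ⟨t.1, t.2.choose_spec.1⟩⟩ : Σ a : {a : X // a ∈ A ∧ a ≠ 1}, D a.1)) := by
      intro s t h
      exact Subtype.ext (congrArg (fun z : Σ a : {a : X // a ∈ A ∧ a ≠ 1}, D a.1 => (z.2 : X)) h)
    refine (Nat.card_le_card_of_injective _ hinj).trans ?_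
    rw [Nat.card_sigma]
    refine (Finset.sum_le_card_nsmul _ _ m fun a _ => hm a.1 a.2.1 a.2.2).trans ?_
    rw [smul_eq_mul, Finset.card_univ, ← Nat.card_eq_fintype_card]
    refine Nat.mul_le_mul_right m (hcard ▸ ?_)
    exact Nat.card_le_card_of_injective (fun a => (⟨a.1, a.2.1⟩ : A))
      (fun a b h => Subtype.ext (Subtype.mk.inj h))
  letI := Fintype.ofFinite T
  set M := m ^ (q ^ 3 * m) with hM
  have hprodT : ∀ f : T → ℕ, (∀ t, f t ≤ m) → ∏ t, f t ≤ M := by
    intro f hf
    refine (Finset.prod_le_pow_card _ _ m fun t _ => hf t).trans ?_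
    rw [Finset.card_univ, ← Nat.card_eq_fintype_card]
    exact Nat.pow_le_pow_right hm1 hTcard
  -- the index of `C(K)` inside the centraliser of a hyperplane
  have hidx : ∀ B ∈ hyp q A,
      (Subgroup.centralizer (K : Set X)).relIndex (G ⊓ hc B) ≤ M := by
    intro B hB
    have hcB : ∀ t : T, ∃ c : {a : X // a ∈ A ∧ a ≠ 1}, ∀ x ∈ G ⊓ hc B, ⁅x, (t : X)⁆ ∈ D c.1 := by
      rintro ⟨t, a, ht, B', hB', htB'⟩
      obtain ⟨c, h1, h2⟩ := hinto B B' hB hB'
      exact ⟨c, fun x hx => Subgroup.commutator_mem_commutator (h1 hx) (h2 ⟨hDG a.1 ht, htB'⟩)⟩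
    choose c hc' using hcB
    set S := (Subgroup.centralizer (K : Set X)).subgroupOf (G ⊓ hc B)
    let φ : (↥(G ⊓ hc B) ⧸ S) → (∀ t : T, D (c t).1) := fun z t =>
      ⟨⁅((Quotient.out z : ↥(G ⊓ hc B)) : X), (t : X)⁆, hc' t _ (Quotient.out z).2⟩
    have hinj : Function.Injective φ := by
      intro z w h
      rw [← QuotientGroup.out_eq' z, ← QuotientGroup.out_eq' w, QuotientGroup.eq]
      rw [Subgroup.mem_subgroupOf]
      set x : ↥(G ⊓ hc B) := Quotient.out z
      set y : ↥(G ⊓ hc B) := Quotient.out w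
      have hT : T ⊆ Subgroup.centralizer ({(((x⁻¹ * y : ↥(G ⊓ hc B))) : X)} : Set X) := by
        intro t ht
        have h' := congrArg Subtype.val (congrFun h ⟨t, ht⟩)
        simp only [φ, commutatorElement_def] at h'
        rw [SetLike.mem_coe, Subgroup.mem_centralizer_singleton_iff]
        have h'' : (x : X) * t * (x : X)⁻¹ = (y : X) * t * (y : X)⁻¹ := mul_right_cancel h'
        have e2 : t = (((x : X)⁻¹ * y) * t * ((x : X)⁻¹ * y)⁻¹) := by
          calc t = (x : X)⁻¹ * ((x : X) * t * (x : X)⁻¹) * x := by group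
            _ = _ := by rw [h'']; group
        push_cast
        calc t * ((x : X)⁻¹ * y) = (((x : X)⁻¹ * y) * t * ((x : X)⁻¹ * y)⁻¹) * ((x : X)⁻¹ * y) := by
              rw [← e2]
          _ = _ := by group
      intro k hk
      have := (hKT.trans ((Subgroup.closure_le _).2 hT)) hk
      rw [Subgroup.mem_centralizer_singleton_iff] at this
      exact this
    calc (Subgroup.centralizer (K : Set X)).relIndex (G ⊓ hc B)
        = Nat.card (↥(G ⊓ hc B) ⧸ S) := rfl
      _ ≤ Nat.card (∀ t : T, D (c t).1) := Nat.card_le_card_of_injective φ hinj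
      _ = ∏ t, Nat.card (D (c t).1) := Nat.card_pi
      _ ≤ M := hprodT _ fun t => hm _ (c t).2.1 (c t).2.2
  -- index of the centre of `K`
  set N := hypBound q m with hN
  have hCn : ∀ g ∈ Subgroup.normalizer (K : Set X),
      g ∈ Subgroup.normalizer (Subgroup.centralizer (K : Set X) : Set X) :=
    fun g hg => H8.le_normalizer_centralizer_of_le_normalizer (A := Subgroup.normalizer (K : Set X)) le_rfl hg
  haveI : ((Subgroup.centralizer (K : Set X)).subgroupOf K).Normal :=
    Subgroup.normal_subgroupOf_of_le_normalizer fun g hg => hCn g (Subgroup.le_normalizer hg)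
  have hI : (Subgroup.centralizer (K : Set X)).relIndex K ∣ N.factorial := by
    rw [Nat.dvd_iff_prime_pow_dvd_dvd]
    intro p k hp hpk
    rcases Nat.eq_zero_or_pos k with rfl | hk
    · simp
    haveI := Fact.mk hp
    obtain ⟨P, hP, hAP⟩ := H8.exists_inv_sylowIn (p := q) (q := p)
      (fun a => ⟨1, by apply Subtype.ext; rw [pow_one]; exact hA.2 _ a.2⟩) hAK hqK
    have hqP : ¬ q ∣ Nat.card P := fun h => hqK (h.trans (Subgroup.card_dvd_of_le hP.le))
    have hle : (Subgroup.centralizer (K : Set X)).relIndex P ≤ N := by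
      refine (relIndex_le_prod hA hA1 _ P hP.isPGroup hqP hAP (fun a ha => hCn a (hAK ha))
        (fun g hg => hCn g (Subgroup.le_normalizer (hP.le hg)))).trans ?_
      refine (Finset.prod_le_pow_card _ _ M fun B hB => ?_).trans ?_
      · exact (Subgroup.relIndex_le_of_le_right (inf_le_inf_right _ (hP.le.trans hKG))
          Subgroup.index_ne_zero_of_finite).trans (hidx B hB)
      · exact Nat.pow_le_pow_right (Nat.one_le_pow _ _ hm1) (hcard ▸ card_hyp_le q A)
    have hdvd : (Subgroup.centralizer (K : Set X)).relIndex K ∣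
        (Subgroup.centralizer (K : Set X)).relIndex P * P.relIndex K := by
      have h1 := Subgroup.relIndex_mul_relIndex (Subgroup.centralizer (K : Set X) ⊓ P) P K
        inf_le_right hP.le
      rw [Subgroup.inf_relIndex_right] at h1
      rw [h1]
      exact Subgroup.relIndex_dvd_of_le_left _ inf_le_left
    have hnot : ¬ p ∣ P.relIndex K := hP.not_dvd
    have hcop : (p ^ k).Coprime (P.relIndex K) :=
      (hp.coprime_iff_not_dvd.2 hnot).pow_left k
    have hpP := hcop.dvd_of_dvd_mul_right (hpk.trans hdvd)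
    exact Nat.dvd_factorial (pow_pos hp.pos k)
      ((Nat.le_of_dvd (Nat.pos_of_ne_zero Subgroup.index_ne_zero_of_finite) hpP).trans hle)
  -- Schur
  have hZ : Subgroup.center K = (Subgroup.centralizer (K : Set X)).subgroupOf K := by
    ext z
    rw [Subgroup.mem_center_iff, Subgroup.mem_subgroupOf, Subgroup.mem_centralizer_iff]
    exact ⟨fun h g hg => congrArg Subtype.val (h ⟨g, hg⟩), fun h g => Subtype.ext (h g g.2)⟩
  have hZle : (Subgroup.center K).index ≤ N.factorial := by
    rw [hZ]; exact Nat.le_of_dvd (Nat.factorial_pos _) hI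
  have hset : Nat.card (commutatorSet K) ≤ N.factorial * N.factorial := by
    let ψ : (K ⧸ Subgroup.center K) × (K ⧸ Subgroup.center K) → commutatorSet K := fun z =>
      ⟨⁅(Quotient.out z.1 : K), (Quotient.out z.2 : K)⁆, commutator_mem_commutatorSet _ _⟩
    have hsurj : Function.Surjective ψ := by
      rintro ⟨_, x, y, rfl⟩
      refine ⟨((x : K ⧸ Subgroup.center K), (y : K ⧸ Subgroup.center K)), Subtype.ext ?_⟩
      obtain ⟨u, hu⟩ := QuotientGroup.mk_out_eq_mul (Subgroup.center K) x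
      obtain ⟨v, hv⟩ := QuotientGroup.mk_out_eq_mul (Subgroup.center K) y
      show ⁅(Quotient.out (x : K ⧸ Subgroup.center K)), Quotient.out (y : K ⧸ Subgroup.center K)⁆ = _
      rw [hu, hv]
      have hu' := Subgroup.mem_center_iff.1 u.2
      have hv' := Subgroup.mem_center_iff.1 v.2
      simp only [commutatorElement_def, mul_inv_rev]
      calc x * (u : K) * (y * (v : K)) * ((u : K)⁻¹ * x⁻¹) * ((v : K)⁻¹ * y⁻¹)
          = x * ((u : K) * (y * (v : K))) * (u : K)⁻¹ * (x⁻¹ * (v : K)⁻¹) * y⁻¹ := by group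
        _ = x * ((y * (v : K)) * (u : K)) * (u : K)⁻¹ * (x⁻¹ * (v : K)⁻¹) * y⁻¹ := by rw [hu' (y * v)]
        _ = x * y * ((v : K) * x⁻¹) * (v : K)⁻¹ * y⁻¹ := by group
        _ = x * y * (x⁻¹ * (v : K)) * (v : K)⁻¹ * y⁻¹ := by rw [hv' x⁻¹]
        _ = x * y * x⁻¹ * y⁻¹ := by group
    refine (Nat.card_le_card_of_surjective ψ hsurj).trans ?_
    rw [Nat.card_prod]
    exact Nat.mul_le_mul hZle hZle
  have hder : Nat.card (commutator K) ≤
      N.factorial ^ (N.factorial * (N.factorial * N.factorial) + 1) := by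
    refine (Nat.le_of_dvd (pow_pos (Nat.pos_of_ne_zero Subgroup.index_ne_zero_of_finite) _)
      (Subgroup.card_commutator_dvd_index_center_pow K)).trans ?_
    refine (Nat.pow_le_pow_left hZle _).trans (Nat.pow_le_pow_right (Nat.factorial_pos _) ?_)
    exact Nat.add_le_add_right (Nat.mul_le_mul hZle hset) 1
  have hab : (commutator K).index ≤ M := by
    let τ : T → Abelianization K := fun t => Abelianization.of (⟨(t : X), hTK t.2⟩ : K)
    have hgen : (⊤ : Subgroup (Abelianization K)) ≤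
        ⨆ t ∈ (Finset.univ : Finset T), Subgroup.zpowers (τ t) := by
      set S := ⨆ t ∈ (Finset.univ : Finset T), Subgroup.zpowers (τ t)
      intro z _
      obtain ⟨k, rfl⟩ : ∃ k : K, Abelianization.of k = z := QuotientGroup.mk_surjective z
      have hle : K ≤ (S.comap (Abelianization.of (G := K))).map K.subtype := by
        refine hKT.trans ((Subgroup.closure_le _).2 fun t ht => ?_)
        refine ⟨⟨t, hTK ht⟩, ?_, rfl⟩
        show τ ⟨t, ht⟩ ∈ S
        exact (le_iSup₂ (f := fun (t : T) (_ : t ∈ (Finset.univ : Finset T)) =>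
          Subgroup.zpowers (τ t)) ⟨t, ht⟩ (Finset.mem_univ _) (Subgroup.mem_zpowers _))
      obtain ⟨w, hw, he⟩ := hle k.2
      obtain rfl : w = k := Subtype.ext he
      exact Subgroup.mem_comap.1 hw
    calc (commutator K).index = Nat.card (⊤ : Subgroup (Abelianization K)) := by
          rw [Subgroup.card_top]; rfl
      _ ≤ Nat.card (⨆ t ∈ (Finset.univ : Finset T),
            Subgroup.zpowers (τ t) : Subgroup (Abelianization K)) :=
          Subgroup.card_le_of_le hgen
      _ ≤ _ := card_iSup_le _ _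
      _ ≤ M := hprodT _ fun t => by
          rw [Nat.card_zpowers]
          refine (Nat.le_of_dvd (orderOf_pos _) (orderOf_map_dvd _ _)).trans ?_
          obtain ⟨a, ha, -⟩ := t.2
          rw [Subgroup.orderOf_mk]
          exact (Nat.le_of_dvd Nat.card_pos (Subgroup.orderOf_dvd_natCard (D a.1) ha)).trans
            (hm a.1 a.2.1 a.2.2)
  calc Nat.card ↥⁅G, G⁆ ≤ Nat.card K := Subgroup.card_le_of_le hGG
    _ = (commutator K).index * Nat.card (commutator K) := (Subgroup.index_mul_card _).symm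
    _ ≤ derBound q m := Nat.mul_le_mul hab hder

end H51.FixDer
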