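import Cfsg.Agent.H8.Coprime
import Cfsg.Agent.H31.InvariantMax

/-!
A `p`-group `P` acted on coprimely by an elementary abelian group `A`: the index of an invariant
normal subgroup is at most the product of the indices inside the centralisers of the hyperplanes
of `A` (helper51).
-/

set_option autoImplicit false

namespace H51.FixDer

open scoped Pointwise commutatorElement

/-- In a commutative group the join of finitely many subgroups has order at most the product. -/
theorem card_iSup_le {V : Type*} [CommGroup V] [Finite V] {ι : Type*} (s : Finset ι)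
    (H : ι → Subgroup V) :
    Nat.card (⨆ i ∈ s, H i : Subgroup V) ≤ ∏ i ∈ s, Nat.card (H i) := by
  classical
  induction s using Finset.induction_on with
  | empty => simp
  | @insert a t ha ih =>
    rw [Finset.iSup_insert, Finset.prod_insert ha]
    refine le_trans ?_ (Nat.mul_le_mul_left _ ih)
    have h := Set.natCard_mul_le (s := ((H a : Subgroup V) : Set V))
      (t := ((⨆ x ∈ t, H x : Subgroup V) : Set V))
    rw [← Subgroup.mul_normal] at h
    exact h

variable {X : Type*} [Group X] [Finite X]

open scoped Classical in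
/-- The hyperplanes of `A`, as subgroups of `A`. -/
noncomputable def hyp (q : ℕ) (A : Subgroup X) : Finset (Subgroup A) :=
  letI := Fintype.ofFinite (Subgroup A)
  Finset.univ.filter fun B => B.index = q

/-- The centraliser of a hyperplane. -/
def hc {A : Subgroup X} (B : Subgroup A) : Subgroup X :=
  Subgroup.centralizer ((B.map A.subtype : Subgroup X) : Set X)

theorem mem_hyp {q : ℕ} {A : Subgroup X} {B : Subgroup A} : B ∈ hyp q A ↔ B.index = q := by
  simp [hyp]

theorem card_hyp_le (q : ℕ) (A : Subgroup X) : (hyp q A).card ≤ 2 ^ Nat.card A := by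
  classical
  letI := Fintype.ofFinite (Subgroup A)
  letI := Fintype.ofFinite A
  calc (hyp q A).card ≤ Fintype.card (Subgroup A) := Finset.card_le_univ _
    _ ≤ Fintype.card (Set A) :=
        Fintype.card_le_of_injective (fun H => (H : Set A)) SetLike.coe_injective
    _ = 2 ^ Nat.card A := by rw [Fintype.card_set, Nat.card_eq_fintype_card]

/-- Generation by the centralisers of the hyperplanes, in the indexing used here. -/
theorem gen {q : ℕ} [Fact q.Prime] {A K W : Subgroup X} (hA : Cfsg.IsElementaryAbelian q A)
    (hA1 : A ≠ ⊥) (hAK : A ≤ Subgroup.normalizer (K : Set X)) (hK : ¬ q ∣ Nat.card K)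
    (hW : ∀ B ∈ hyp q A, K ⊓ hc B ≤ W) : K ≤ W := by
  refine H8.generation hA hA1 hAK hK fun B hBA hB => ?_
  have h := hW (B.subgroupOf A) (mem_hyp.2 hB)
  rwa [hc, Subgroup.map_subgroupOf_eq_of_le hBA] at h

/-- The index of an invariant subgroup of a `p`-group is bounded inside hyperplane centralisers. -/
theorem relIndex_le_prod {q p : ℕ} [Fact q.Prime] [Fact p.Prime] {A : Subgroup X}
    (hA : Cfsg.IsElementaryAbelian q A) (hA1 : A ≠ ⊥) :
    ∀ (C P : Subgroup X), IsPGroup p P → ¬ q ∣ Nat.card P → A ≤ Subgroup.normalizer (P : Set X) →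
      A ≤ Subgroup.normalizer (C : Set X) → P ≤ Subgroup.normalizer (C : Set X) →
      C.relIndex P ≤ ∏ B ∈ hyp q A, C.relIndex (P ⊓ hc B) := by
  suffices H : ∀ (n : ℕ) (C P : Subgroup X), C.relIndex P = n → IsPGroup p P →
      ¬ q ∣ Nat.card P → A ≤ Subgroup.normalizer (P : Set X) →
      A ≤ Subgroup.normalizer (C : Set X) → P ≤ Subgroup.normalizer (C : Set X) →
      C.relIndex P ≤ ∏ B ∈ hyp q A, C.relIndex (P ⊓ hc B) from
    fun C P => H _ C P rfl
  intro n
  induction n using Nat.strong_induction_on with
  | _ n ih =>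
  intro C P hn hP hqP hAP hAC hPC
  haveI : (C.subgroupOf P).Normal := Subgroup.normal_subgroupOf_of_le_normalizer hPC
  by_cases hcom : commutator P ≤ C.subgroupOf P
  · -- abelian section
    have hcomm : ∀ x y : P ⧸ C.subgroupOf P, x * y = y * x := by
      intro x y
      induction x using QuotientGroup.induction_on with | H x =>
      induction y using QuotientGroup.induction_on with | H y =>
      rw [← QuotientGroup.mk_mul, ← QuotientGroup.mk_mul, QuotientGroup.eq]
      apply hcom
      have e : (x * y)⁻¹ * (y * x) = ⁅y⁻¹, x⁻¹⁆ := by rw [commutatorElement_def]; group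
      rw [e]
      exact Subgroup.commutator_mem_commutator (Subgroup.mem_top _) (Subgroup.mem_top _)
    letI : CommGroup (P ⧸ C.subgroupOf P) :=
      { (inferInstance : Group (P ⧸ C.subgroupOf P)) with mul_comm := hcomm }
    have hgen : (⊤ : Subgroup (P ⧸ C.subgroupOf P)) ≤
        ⨆ B ∈ hyp q A, ((P ⊓ hc B).subgroupOf P).map (QuotientGroup.mk' (C.subgroupOf P)) := by
      set S := ⨆ B ∈ hyp q A, ((P ⊓ hc B).subgroupOf P).map (QuotientGroup.mk' (C.subgroupOf P))
      intro z _
      induction z using QuotientGroup.induction_on with | H x =>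
      have hle : P ≤ (S.comap (QuotientGroup.mk' (C.subgroupOf P))).map P.subtype := by
        refine gen hA hA1 hAP hqP fun B hB y hy => ?_
        refine ⟨⟨y, hy.1⟩, ?_, rfl⟩
        refine Subgroup.mem_comap.2 (le_iSup₂ (f := fun B (_ : B ∈ hyp q A) =>
          ((P ⊓ hc B).subgroupOf P).map (QuotientGroup.mk' (C.subgroupOf P))) B hB ?_)
        exact ⟨⟨y, hy.1⟩, hy, rfl⟩
      obtain ⟨w, hw, he⟩ := hle x.2
      obtain rfl : w = x := Subtype.ext he
      exact hw
    calc C.relIndex P = Nat.card (⊤ : Subgroup (P ⧸ C.subgroupOf P)) := by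
          rw [Subgroup.card_top]; rfl
      _ ≤ Nat.card (⨆ B ∈ hyp q A,
            ((P ⊓ hc B).subgroupOf P).map (QuotientGroup.mk' (C.subgroupOf P)) :
              Subgroup (P ⧸ C.subgroupOf P)) := Subgroup.card_le_of_le hgen
      _ ≤ _ := card_iSup_le _ _
      _ = _ := Finset.prod_congr rfl fun B _ => by
          rw [← Subgroup.relIndex_ker, QuotientGroup.ker_mk',
            Subgroup.relIndex_subgroupOf inf_le_left]
  · -- a proper invariant intermediate subgroup
    set U : Subgroup P := C.subgroupOf P ⊔ commutator P with hU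
    have hUn : U.Normal := Subgroup.sup_normal _ _
    have hUne : U ≠ ⊤ := by
      intro h
      apply hcom
      have h2 : C.subgroupOf P ⊔ frattini P = ⊤ :=
        eq_top_iff.2 (h ▸ sup_le_sup_left (H31.commutator_le_frattini hP) _)
      rw [frattini_nongenerating h2]
      exact le_top
    set V : Subgroup X := U.map P.subtype with hV
    have hVP : V ≤ P := Subgroup.map_subtype_le _
    have hCV : C ⊓ P ≤ V := fun x hx =>
      ⟨⟨x, hx.2⟩, Subgroup.mem_sup_left (show (⟨x, hx.2⟩ : P) ∈ C.subgroupOf P from hx.1), rfl⟩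
    have hPV : P ≤ Subgroup.normalizer (V : Set X) := by
      refine le_trans ?_ (Subgroup.le_normalizer_map P.subtype)
      rw [Subgroup.normalizer_eq_top U, ← MonoidHom.range_eq_map, Subgroup.range_subtype]
    have hAV : A ≤ Subgroup.normalizer (V : Set X) := by
      have e : V = (C ⊓ P) ⊔ ⁅P, P⁆ := by
        rw [hV, hU, Subgroup.map_sup, Subgroup.subgroupOf_map_subtype,
          Subgroup.map_subtype_commutator]
      intro a ha
      rw [e, H82.mem_normalizer_iff_map, Subgroup.map_sup, Subgroup.map_commutator,
        H82.mem_normalizer_iff_map.1 (hAP ha)]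
      congr 1
      exact H82.mem_normalizer_iff_map.1 (H8.le_normalizer_inf hAC hAP ha)
    have hVC : V ≤ Subgroup.normalizer (C : Set X) := hVP.trans hPC
    have split : ∀ L : Subgroup X, L ≤ P → C.relIndex L = C.relIndex (V ⊓ L) * V.relIndex L := by
      intro L hL
      have h1 := Subgroup.relIndex_mul_relIndex (C ⊓ L) (V ⊓ L) L
        (le_inf (le_trans (inf_le_inf_left C hL) hCV) inf_le_right) inf_le_right
      rw [Subgroup.inf_relIndex_right, Subgroup.inf_relIndex_right] at h1
      rw [← h1]
      congr 1
      rw [← Subgroup.inf_relIndex_right C (V ⊓ L)]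
      congr 1
      exact le_antisymm (le_inf inf_le_left (le_inf (le_trans (inf_le_inf_left C hL) hCV)
        inf_le_right)) (inf_le_inf_left C inf_le_right)
    have hsplit : C.relIndex P = C.relIndex V * V.relIndex P := by
      rw [split P le_rfl, inf_eq_left.2 hVP]
    have hV1 : V.relIndex P ≠ 1 := by
      rw [Ne, Subgroup.relIndex_eq_one]
      intro h
      apply hUne
      refine eq_top_iff.2 fun x _ => ?_
      obtain ⟨w, hw, he⟩ := h x.2
      obtain rfl : w = x := Subtype.ext he
      exact hw
    have hC1 : C.relIndex V ≠ 1 := by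
      rw [Ne, Subgroup.relIndex_eq_one]
      intro h
      apply hcom
      intro x hx
      exact h ⟨x, Subgroup.mem_sup_right hx, rfl⟩
    have hC0 : C.relIndex V ≠ 0 := Subgroup.index_ne_zero_of_finite
    have hV0 : V.relIndex P ≠ 0 := Subgroup.index_ne_zero_of_finite
    have hlt1 : C.relIndex V < n := by
      rw [← hn, hsplit]
      exact lt_mul_of_one_lt_right (by omega) (by omega)
    have hlt2 : V.relIndex P < n := by
      rw [← hn, hsplit]
      exact lt_mul_of_one_lt_left (by omega) (by omega)
    have hqV : ¬ q ∣ Nat.card V := fun h => hqP (h.trans (Subgroup.card_dvd_of_le hVP))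
    have i1 := ih _ hlt1 C V rfl (hP.to_le hVP) hqV hAV hAC hVC
    have i2 := ih _ hlt2 V P rfl hP hqP hAP hAV hPV
    rw [hsplit]
    refine (Nat.mul_le_mul i1 i2).trans (le_of_eq ?_)
    rw [← Finset.prod_mul_distrib]
    refine Finset.prod_congr rfl fun B _ => ?_
    rw [split (P ⊓ hc B) inf_le_left, ← inf_assoc, inf_eq_left.2 hVP]

end H51.FixDer
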